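import Mathlib

/-!
# NO-3S, `TwoOne` / `CompP`, `k ≥ 2`, `D_x > I` (helper881, bb OMEGA #19126), section 3, pure form

`H` acts on the elementary abelian 2-group `M`; `L` = the line vectors, `A l` (`l ∈ L`) elementary abelian
2-groups. `Hy L A l m` (`l ~ m`, hyperbolic pair): `l, m ∈ L`, `[m, A l] = ⟨l⟩`.
`SameCl A l m m'` : `m, m'` induce the same functional on `A l`.

`Hyp` = the input (symmetry, section 2 of #19126, (0.10), `|A l| ≥ 4`, `|H : H_l|` odd).

* `Hyp.dich` = (3.2), `Hyp.hy_of_mem` = (3.3)+(3.4): all pairs of the component `Cp l` are hyperbolic,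
* `Hyp.sub`: `Cp l ∪ {0}` as an additive subgroup.
-/

set_option autoImplicit false
set_option linter.unusedSimpArgs false

namespace Cfsg.Agent.Omega.NO3S.TwoOne.PD

variable {M H : Type*} [AddCommGroup M] [Group H] [DistribMulAction H M]

/-- `l ~ m`: `l, m ∈ L` and `[m, A l] = ⟨l⟩` -/
def Hy (L : Set M) (A : M → Subgroup H) (l m : M) : Prop :=
  l ∈ L ∧ m ∈ L ∧ (∃ a ∈ A l, a • m = m + l) ∧ ∀ a ∈ A l, a • m = m ∨ a • m = m + l

/-- `m`, `m'` have the same centraliser in `A l` -/
def SameCl (A : M → Subgroup H) (l m m' : M) : Prop :=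
  ∀ a ∈ A l, a • m = m ↔ a • m' = m'

/-- the input of section 3 of #19126 -/
structure Hyp (L : Set M) (A : M → Subgroup H) : Prop where
  two : ∀ m : M, m + m = 0
  zero : (0 : M) ∉ L
  smul : ∀ (h : H) {l : M}, l ∈ L → h • l ∈ L
  trans : ∀ {l m : M}, l ∈ L → m ∈ L → ∃ h : H, h • l = m
  A_conj : ∀ (h : H) {l : M} {a : H}, l ∈ L → a ∈ A l → h * a * h⁻¹ ∈ A (h • l)
  sq : ∀ {l : M} {a : H}, l ∈ L → a ∈ A l → a * a = 1
  self : ∀ {l : M} {a : H}, l ∈ L → a ∈ A l → a • l = l
  symm : ∀ {l m : M}, Hy L A l m → Hy L A m l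
  /-- section 2 -/
  sec : ∀ {l m m' : M}, Hy L A l m → Hy L A l m' → ¬ SameCl A l m m' → Hy L A m m'
  /-- (0.10) -/
  ten : ∀ {l : M} {a : H}, l ∈ L → a ∈ A l → a ≠ 1 → ∃ m, Hy L A l m ∧ a • m = m + l
  four : ∀ {l : M}, l ∈ L → 4 ≤ Nat.card (A l)
  odd : ∀ {l : M}, l ∈ L → ¬ 2 ∣ (MulAction.stabilizer H l).index

namespace Hyp

variable {L : Set M} {A : M → Subgroup H}

section

variable (G : Hyp L A)
include G

theorem two_left (x y : M) : x + (x + y) = y := by
  rw [← add_assoc, G.two, zero_add]

theorem ne_zero {l : M} (hl : l ∈ L) : l ≠ 0 := fun h => G.zero (h ▸ hl)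

theorem inv {l : M} {a : H} (hl : l ∈ L) (ha : a ∈ A l) : a⁻¹ = a :=
  inv_eq_of_mul_eq_one_left (G.sq hl ha)

theorem add_ne {l m : M} (hl : l ∈ L) : m + l ≠ m := fun h => G.ne_zero hl (by simpa using h)

theorem hy_ne {l m : M} (h : Hy L A l m) : l ≠ m := by
  rintro rfl
  obtain ⟨a, ha, h1⟩ := h.2.2.1
  rw [G.self h.1 ha] at h1
  exact G.add_ne h.1 h1.symm

theorem hy_smul (g : H) {l m : M} (h : Hy L A l m) : Hy L A (g • l) (g • m) := by
  refine ⟨G.smul g h.1, G.smul g h.2.1, ?_, ?_⟩
  · obtain ⟨a, ha, h1⟩ := h.2.2.1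
    refine ⟨g * a * g⁻¹, G.A_conj g h.1 ha, ?_⟩
    rw [mul_smul, mul_smul, inv_smul_smul, h1, smul_add]
  · intro a ha
    have h2 := G.A_conj g⁻¹ (G.smul g h.1) ha
    rw [inv_smul_smul, inv_inv] at h2
    have e : a • g • m = g • ((g⁻¹ * a * g) • m) := by
      rw [← mul_smul, ← mul_smul]
      congr 1
      group
    rw [e]
    rcases h.2.2.2 _ h2 with h3 | h3
    · left; rw [h3]
    · right; rw [h3, smul_add]

/-- `l ~ m ⟹ l ~ l + m` -/
theorem hy_add {l m : M} (h : Hy L A l m) : Hy L A l (m + l) := by
  obtain ⟨a, ha, h1⟩ := h.2.2.1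
  have := G.hy_smul a h
  rwa [h1, G.self h.1 ha] at this

theorem same_add {l m : M} (h : Hy L A l m) : SameCl A l m (m + l) := by
  intro a ha
  rw [smul_add, G.self h.1 ha, add_left_inj]

theorem same_iff {l m m' : M} (h : Hy L A l m) (h' : Hy L A l m') :
    SameCl A l m m' ↔ ∀ a ∈ A l, a • (m + m') = m + m' := by
  constructor
  · intro hs a ha
    rcases h.2.2.2 a ha with h1 | h1
    · rw [smul_add, h1, (hs a ha).1 h1]
    · have h2 : ¬ a • m' = m' := fun h2 => by
        rw [(hs a ha).2 h2] at h1
        exact G.add_ne h.1 h1.symm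
      rw [smul_add, h1, (h'.2.2.2 a ha).resolve_left h2, add_add_add_comm, G.two, add_zero]
  · intro hs a ha
    have h1 := hs a ha
    rw [smul_add] at h1
    constructor
    · intro h2
      rw [h2] at h1
      exact add_left_cancel h1
    · intro h2
      rw [h2] at h1
      exact add_right_cancel h1

theorem exists_fix [Finite H] {l m : M} (h : Hy L A l m) : ∃ a ∈ A l, a ≠ 1 ∧ a • m = m := by
  obtain ⟨b, hb, hbm⟩ := h.2.2.1
  by_contra hcon
  push Not at hcon
  have key : ∀ a ∈ A l, a = 1 ∨ a = b := by
    intro a ha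
    by_contra hne
    push Not at hne
    have h1 : a • m = m + l := (h.2.2.2 a ha).resolve_left (hcon a ha hne.1)
    refine hcon (b * a) (mul_mem hb ha) ?_ ?_
    · intro h2
      exact hne.2 (by rw [← G.inv h.1 hb]; exact (inv_eq_of_mul_eq_one_right h2).symm)
    · rw [mul_smul, h1, smul_add, hbm, G.self h.1 hb, add_assoc, G.two, add_zero]
  have h4 := G.four h.1
  have hle : Nat.card (A l) ≤ 2 := by
    have hsub : ((A l : Subgroup H) : Set H) ⊆ {1, b} := fun a ha => key a ha
    calc Nat.card (A l) = Set.ncard ((A l : Subgroup H) : Set H) := Nat.card_coe_set_eq _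
      _ ≤ Set.ncard ({1, b} : Set H) := Set.ncard_le_ncard hsub
      _ ≤ 2 := (Set.ncard_insert_le _ _).trans (by rw [Set.ncard_singleton])
  omega

/-- `w ~ l` of a class different from the class of `m` -/
theorem exists_diff [Finite H] {l m : M} (h : Hy L A l m) : ∃ w, Hy L A l w ∧ ¬ SameCl A l w m := by
  obtain ⟨a, ha, h1, h2⟩ := G.exists_fix h
  obtain ⟨w, hw, h3⟩ := G.ten h.1 ha h1
  refine ⟨w, hw, fun hs => ?_⟩
  rw [(hs a ha).2 h2] at h3
  exact G.add_ne h.1 h3.symm

/-- `l ~ m` interchanged by `⟨A l, A m⟩` -/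
theorem exists_swap {l m : M} (h : Hy L A l m) : ∃ a ∈ A l, ∃ b ∈ A m, (a * b) • l = m := by
  obtain ⟨a, ha, h1⟩ := h.2.2.1
  obtain ⟨b, hb, h2⟩ := (G.symm h).2.2.1
  refine ⟨a, ha, b, hb, ?_⟩
  rw [mul_smul, h2, smul_add, G.self h.1 ha, h1, add_comm m l, G.two_left]

end

/-- `m` is centralised by `A v` and by all `A t`, `t ~ v` -/
def Fx (L : Set M) (A : M → Subgroup H) (v m : M) : Prop :=
  ∀ t, (t = v ∨ Hy L A v t) → ∀ a ∈ A t, a • m = m

section

variable (G : Hyp L A)
include G

theorem fx_step {v w m : M} (hm : Fx L A v m) (h : Hy L A v w) : Fx L A w m := by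
  obtain ⟨a, ha, b, hb, hab⟩ := G.exists_swap h
  have hg : (a * b) • m = m := by
    rw [mul_smul, hm w (Or.inr h) b hb, hm v (Or.inl rfl) a ha]
  intro t ht x hx
  have htL : t ∈ L := by
    rcases ht with rfl | ht
    · exact h.2.1
    · exact ht.2.1
  have h1 : (a * b)⁻¹ * x * (a * b) ∈ A ((a * b)⁻¹ • t) := by
    have := G.A_conj (a * b)⁻¹ htL hx
    rwa [inv_inv] at this
  have h2 : (a * b)⁻¹ • t = v ∨ Hy L A v ((a * b)⁻¹ • t) := by
    rcases ht with rfl | ht
    · left; rw [← hab, inv_smul_smul]
    · right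
      have := G.hy_smul (a * b)⁻¹ ht
      rwa [← hab, inv_smul_smul] at this
  have h3 := hm _ h2 _ h1
  have h4 : x • (a * b) • m = (a * b) • m := by
    rw [mul_smul, mul_smul] at h3
    exact inv_smul_eq_iff.1 h3
  rwa [hg] at h4

/-- the component of `l` -/
theorem fx_chain {v w m : M} (hm : Fx L A v m) (h : Relation.ReflTransGen (Hy L A) v w) : Fx L A w m := by
  induction h with
  | refl => exact hm
  | tail _ h2 ih => exact G.fx_step ih h2

/-- (3.1), main part: `u, l ~ v` of the same class, `u` not `~ l` -/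
theorem fx_of [Finite H] {v l u : M} (hl : Hy L A v l) (hu : Hy L A v u) (hs : SameCl A v l u)
    (hn : ¬ Hy L A l u) : Fx L A v (l + u) := by
  have hv : ∀ a ∈ A v, a • (l + u) = l + u := (G.same_iff hl hu).1 hs
  -- `w` of a different class
  have hw : ∀ w, Hy L A v w → ¬ SameCl A v w l → ∀ a ∈ A w, a • (l + u) = l + u := by
    intro w hw hd
    have h1 : Hy L A w l := G.sec hw hl hd
    have h2 : Hy L A w u := G.sec hw hu (fun h => hd (fun a ha => (h a ha).trans (hs a ha).symm))
    exact (G.same_iff h1 h2).1 (by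
      by_contra hc
      exact hn (G.sec h1 h2 hc))
  obtain ⟨w, hvw, hd⟩ := G.exists_diff hl
  intro t ht a ha
  rcases ht with rfl | ht
  · exact hv a ha
  by_cases hc : SameCl A v t l
  · -- the same class
    have hd' : ¬ SameCl A v t w := fun h => hd (fun a ha => (h a ha).symm.trans (hc a ha))
    have htw : Hy L A t w := G.sec ht hvw hd'
    have hwt : Hy L A w t := G.symm htw
    -- `t + w`
    have htwL : t + w ∈ L := (add_comm w t) ▸ (G.hy_add htw).2.1
    have h3 : Hy L A v (t + w) := by
      refine ⟨hl.1, htwL, ?_, ?_⟩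
      · by_contra hcon
        push Not at hcon
        apply hd'
        rw [G.same_iff ht hvw]
        intro a ha
        rcases ht.2.2.2 a ha with h5 | h5 <;> rcases hvw.2.2.2 a ha with h6 | h6
        · rw [smul_add, h5, h6]
        · exact absurd (by rw [smul_add, h5, h6, add_assoc]) (hcon a ha)
        · exact absurd (by rw [smul_add, h5, h6]; abel) (hcon a ha)
        · rw [smul_add, h5, h6, add_add_add_comm, G.two, add_zero]
      · intro a ha
        rcases ht.2.2.2 a ha with h5 | h5 <;> rcases hvw.2.2.2 a ha with h6 | h6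
        · left; rw [smul_add, h5, h6]
        · right; rw [smul_add, h5, h6, add_assoc]
        · right; rw [smul_add, h5, h6]; abel
        · left; rw [smul_add, h5, h6, add_add_add_comm, G.two, add_zero]
    have h4 : ¬ SameCl A v (t + w) l := by
      intro h5
      -- then `w` would be centralised by `A v`
      have h6 : SameCl A v (t + w) t := fun a ha => (h5 a ha).trans (hc a ha).symm
      have h7 := (G.same_iff h3 ht).1 h6
      obtain ⟨a, ha, h8⟩ := hvw.2.2.1
      have h9 := h7 a ha
      have e : t + w + t = w := by rw [add_comm t w, add_assoc, G.two, add_zero]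
      rw [e, h8] at h9
      exact G.add_ne hl.1 h9
    have hcw := hw w hvw hd
    have hct := hw (t + w) h3 h4
    -- `b ∈ A (t + w)` moves `w` to `t`
    have h5 : Hy L A (t + w) w := by
      have h6 := G.symm (G.hy_add hwt)
      exact h6
    obtain ⟨b, hb, hbw⟩ := h5.2.2.1
    have hbt : b • w = t := by rw [hbw, add_comm t w, G.two_left]
    have hbA := G.A_conj b⁻¹ ht.2.1 ha
    rw [inv_inv, ← hbt, inv_smul_smul] at hbA
    have hbm := hct b hb
    have h8 := hcw _ hbA
    rw [mul_smul, mul_smul, hbm] at h8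
    have := congrArg (fun y => b • y) h8
    rw [smul_inv_smul, hbm] at this
    exact this
  · exact hw t ht hc a ha

/-- (3.2) -/
theorem dich [Finite H] {l t : M} (hl : l ∈ L) (h : Relation.ReflTransGen (Hy L A) l t) :
    Fx L A l (l + t) ∨ Hy L A l t := by
  induction h with
  | refl =>
    left
    rw [G.two]
    intro t _ a _
    exact smul_zero a
  | @tail v t h1 h2 ih =>
    rcases ih with ih | ih
    · right
      -- `v = l + m`
      have hm := G.fx_chain ih h1
      have hA := G.fx_step hm h2 t (Or.inl rfl)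
      have hs := G.symm h2
      refine G.symm ⟨h2.2.1, hl, ?_, ?_⟩
      · obtain ⟨a, ha, h3⟩ := hs.2.2.1
        refine ⟨a, ha, ?_⟩
        have h4 := hA a ha
        rw [smul_add, h3] at h4
        have : a • l = l + v + (v + t) := by rw [← h4, add_assoc, G.two, add_zero]
        rw [this, add_assoc, G.two_left]
      · intro a ha
        have h4 := hA a ha
        rw [smul_add] at h4
        rcases hs.2.2.2 a ha with h3 | h3
        · left
          rw [h3] at h4
          exact add_right_cancel h4
        · right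
          rw [h3] at h4
          have : a • l = l + v + (v + t) := by rw [← h4, add_assoc, G.two, add_zero]
          rw [this, add_assoc, G.two_left]
    · -- `l, t ~ v`
      by_cases hs : SameCl A v l t
      · by_cases hn : Hy L A l t
        · right; exact hn
        · left
          have := G.fx_of (G.symm ih) h2 hs hn
          exact G.fx_step this (G.symm ih)
      · right; exact G.sec (G.symm ih) h2 hs

theorem chain_symm {v w : M} (h : Relation.ReflTransGen (Hy L A) v w) :
    Relation.ReflTransGen (Hy L A) w v := by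
  induction h with
  | refl => exact .refl
  | tail _ h2 ih => exact (Relation.ReflTransGen.single (G.symm h2)).trans ih

omit G in
theorem chain_mem {v w : M} (hv : v ∈ L) (h : Relation.ReflTransGen (Hy L A) v w) : w ∈ L := by
  induction h with
  | refl => exact hv
  | tail _ h2 _ => exact h2.2.1

theorem chain_smul (g : H) {v w : M} (h : Relation.ReflTransGen (Hy L A) v w) :
    Relation.ReflTransGen (Hy L A) (g • v) (g • w) := by
  induction h with
  | refl => exact .refl
  | tail _ h2 ih => exact ih.tail (G.hy_smul g h2)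

/-- the component lies in `Ē_w` for each of its members `w` -/
theorem act_or [Finite H] {w x : M} {b : H} (hw : w ∈ L) (h : Relation.ReflTransGen (Hy L A) w x)
    (hb : b ∈ A w) : b • x = x ∨ b • x = x + w := by
  rcases G.dich hw h with h1 | h1
  · left
    have h2 := h1 w (Or.inl rfl) b hb
    rw [smul_add, G.self hw hb] at h2
    exact add_left_cancel h2
  · exact h1.2.2.2 b hb

/-- (3.3), the translation: `y, y + m` in the component, `m` centralised, `x ~ y ⟹ x + m` in the component -/
theorem translate [Finite H] {l m x y : M} (hl : l ∈ L) (hm : Fx L A l m)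
    (hy : Relation.ReflTransGen (Hy L A) l y) (hym : Relation.ReflTransGen (Hy L A) l (y + m))
    (hxy : Hy L A x y) : Relation.ReflTransGen (Hy L A) l (x + m) := by
  have hyx := G.symm hxy
  have hx : Relation.ReflTransGen (Hy L A) l x := hy.tail hyx
  -- `w ~ x` of a different class from `y`
  obtain ⟨w, hxw, hd⟩ := G.exists_diff hxy
  have hwy : Hy L A w y := G.sec hxw hxy hd
  have hwx : Hy L A w x := G.symm hxw
  have hw : Relation.ReflTransGen (Hy L A) l w := hx.tail hxw
  have hmw := G.fx_chain hm hw
  -- `b ∈ A w` with `b y = y`, `b x = x + w`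
  obtain ⟨b, hb, hby, hbx⟩ : ∃ b ∈ A w, b • y = y ∧ b • x = x + w := by
    by_contra hcon
    push Not at hcon
    -- then `x` and `y` have the same class at `w`, against `w ~ x + y`
    have h1 : ∀ b ∈ A w, b • y = y → b • x = x := fun b hb h =>
      (hwx.2.2.2 b hb).resolve_right (hcon b hb h)
    have h2 : SameCl A w y x := by
      intro b hb
      refine ⟨h1 b hb, fun h3 => ?_⟩
      by_contra h4
      obtain ⟨c, hc, h5⟩ := hwx.2.2.1
      have h6 : b • y = y + w := (hwy.2.2.2 b hb).resolve_left h4
      have h7 : c • y = y + w := (hwy.2.2.2 c hc).resolve_left fun h => by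
        rw [h1 c hc h] at h5
        exact G.add_ne hwx.1 h5.symm
      have h8 : (c * b) • y = y := by
        rw [mul_smul, h6, smul_add, h7, G.self hwx.1 hc, add_assoc, G.two, add_zero]
      have h9 := h1 _ (mul_mem hc hb) h8
      rw [mul_smul, h3, h5] at h9
      exact G.add_ne hwx.1 h9
    have h3 := (G.same_iff hwy hwx).1 h2
    have h4 : Hy L A x (y + x) := G.hy_add hxy
    have h5 : Hy L A w (y + x) := by
      refine G.sec hxw h4 fun hs => hd fun a ha => (hs a ha).trans (G.same_add hxy a ha).symm
    obtain ⟨a, ha, h6⟩ := h5.2.2.1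
    rw [h3 a ha] at h6
    exact G.add_ne hwx.1 h6.symm
  have hw1 : w ∈ L := hwx.1
  have hbw := G.self hw1 hb
  have hbm := hmw w (Or.inl rfl) b hb
  have hbb := G.inv hw1 hb
  -- the commutator `[a, b]`, `a ∈ A y` with `a w = w + y`, maps `x` to `x + y`
  have comm : ∀ y, Hy L A w y → Relation.ReflTransGen (Hy L A) l y → b • y = y →
      ∃ c : H, (∀ z, Relation.ReflTransGen (Hy L A) l z → (b • z = z → c • z = z) ∧
        (b • z = z + w → c • z = z + y)) := by
    intro y hwy hy hby
    obtain ⟨a, ha, haw⟩ := (G.symm hwy).2.2.1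
    have hyL := hwy.2.1
    have hay := G.self hyL ha
    have hai := G.inv hyL ha
    refine ⟨a * b * a * b, fun z hz => ⟨fun h => ?_, fun h => ?_⟩⟩
    · rw [mul_smul, h, mul_smul, mul_smul]
      have haz := G.act_or hyL ((G.chain_symm hy).trans hz) ha
      rcases haz with h1 | h1
      · rw [h1, h, h1]
      · rw [h1, smul_add, h, hby, smul_add, h1, hay, add_assoc, G.two, add_zero]
    · rw [mul_smul, h, mul_smul, mul_smul, smul_add, haw]
      have haz := G.act_or hyL ((G.chain_symm hy).trans hz) ha
      have e1 : b • (w + y) = w + y := by rw [smul_add, hbw, hby]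
      have e2 : a • (w + y) = w := by rw [smul_add, haw, hay, add_assoc, G.two, add_zero]
      rcases haz with h1 | h1
      · have e : b • (z + (w + y)) = z + y := by
          rw [smul_add, h, e1, ← add_assoc, add_assoc z w w, G.two, add_zero]
        rw [h1, e, smul_add, h1, hay]
      · have e : z + y + (w + y) = z + w + (y + y) := by abel
        have e' : b • (z + w) = z := by rw [smul_add, h, hbw, add_assoc, G.two, add_zero]
        rw [h1, e, G.two, add_zero, e', h1]
  obtain ⟨c, hc⟩ := comm y hwy hy hby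
  have hbym : b • (y + m) = y + m := by rw [smul_add, hby, hbm]
  have hwym : Hy L A w (y + m) := by
    refine ⟨hw1, chain_mem hl hym, ?_, ?_⟩
    · obtain ⟨a, ha, h1⟩ := hwy.2.2.1
      refine ⟨a, ha, ?_⟩
      rw [smul_add, h1, hmw w (Or.inl rfl) a ha]
      abel
    · intro a ha
      rcases hwy.2.2.2 a ha with h1 | h1
      · left; rw [smul_add, h1, hmw w (Or.inl rfl) a ha]
      · right
        rw [smul_add, h1, hmw w (Or.inl rfl) a ha]
        abel
  obtain ⟨c', hc'⟩ := comm (y + m) hwym hym hbym
  -- `c' c` maps `x` to `x + m`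
  have h1 : c • x = x + y := (hc x hx).2 hbx
  have h2 : c' • x = x + (y + m) := (hc' x hx).2 hbx
  have h3 : c' • y = y := (hc' y hy).1 hby
  have h4 : (c' * c) • x = x + m := by
    rw [mul_smul, h1, smul_add, h2, h3]
    have e : x + (y + m) + y = x + m + (y + y) := by abel
    rw [e, G.two, add_zero]
  -- `c' c` fixes `y`, so it normalises the component
  have h5 : (c' * c) • y = y := by
    rw [mul_smul, (hc y hy).1 hby, h3]
  have h6 := G.chain_smul (c' * c) ((G.chain_symm hy).trans hx)
  rw [h5, h4] at h6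
  exact hy.trans h6

theorem translate_all [Finite H] {l m x : M} (hl : l ∈ L) (hm : Fx L A l m)
    (hlm : Relation.ReflTransGen (Hy L A) l (l + m)) (hx : Relation.ReflTransGen (Hy L A) l x) :
    Relation.ReflTransGen (Hy L A) l (x + m) := by
  induction hx with
  | refl => exact hlm
  | tail h1 h2 ih => exact G.translate hl hm h1 ih (G.symm h2)

/-- the component of `l` has odd order -/
theorem odd_card [Finite H] {l : M} (hl : l ∈ L) :
    ¬ 2 ∣ Nat.card {x : M // Relation.ReflTransGen (Hy L A) l x} := by
  -- the stabiliser of the component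
  let S : Subgroup H :=
    { carrier := {h | Relation.ReflTransGen (Hy L A) l (h • l)}
      one_mem' := by
        change Relation.ReflTransGen (Hy L A) l ((1 : H) • l)
        rw [one_smul]
      mul_mem' := by
        intro a b ha hb
        have := G.chain_smul a hb
        change Relation.ReflTransGen (Hy L A) l ((a * b) • l)
        rw [mul_smul]
        exact Relation.ReflTransGen.trans ha this
      inv_mem' := by
        intro a ha
        have := G.chain_smul a⁻¹ ha
        rw [inv_smul_smul] at this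
        exact G.chain_symm this }
  have hS : MulAction.stabilizer H l ≤ S := by
    intro h hh
    change Relation.ReflTransGen (Hy L A) l (h • l)
    rw [MulAction.mem_stabilizer_iff.1 hh]
  have h1 := Subgroup.relIndex_mul_index hS
  have h2 : (MulAction.stabilizer H l).relIndex S = Nat.card {x : M // Relation.ReflTransGen (Hy L A) l x} := by
    have h3 : (MulAction.stabilizer H l).subgroupOf S = MulAction.stabilizer S l := by
      ext s
      rw [Subgroup.mem_subgroupOf, MulAction.mem_stabilizer_iff, MulAction.mem_stabilizer_iff]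
      rfl
    rw [Subgroup.relIndex, h3, MulAction.index_stabilizer, ← Nat.card_coe_set_eq]
    have h4 : MulAction.orbit S l = {x : M | Relation.ReflTransGen (Hy L A) l x} := by
      ext x
      constructor
      · rintro ⟨s, rfl⟩
        exact s.2
      · intro hx
        obtain ⟨h, rfl⟩ := G.trans hl (chain_mem hl hx)
        exact ⟨⟨h, hx⟩, rfl⟩
    rw [h4]
    rfl
  intro h3
  apply G.odd hl
  rw [← h1, h2]
  exact Dvd.dvd.mul_right h3 _

/-- (3.3): `l + m` in the component, `m` centralised ⟹ `m = 0` -/
theorem eq_zero [Finite H] {l m : M} (hl : l ∈ L) (hm : Fx L A l m)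
    (hlm : Relation.ReflTransGen (Hy L A) l (l + m)) : m = 0 := by
  classical
  by_contra hne
  apply G.odd_card hl
  have hfin : Finite {x : M // Relation.ReflTransGen (Hy L A) l x} := by
    have hs : Function.Surjective (fun h : {h : H // Relation.ReflTransGen (Hy L A) l (h • l)} =>
        (⟨h.1 • l, h.2⟩ : {x : M // Relation.ReflTransGen (Hy L A) l x})) := by
      rintro ⟨x, hx⟩
      obtain ⟨h, rfl⟩ := G.trans hl (chain_mem hl hx)
      exact ⟨⟨h, hx⟩, rfl⟩
    exact Finite.of_surjective _ hs
  have := Fintype.ofFinite {x : M // Relation.ReflTransGen (Hy L A) l x}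
  rw [Nat.card_eq_fintype_card]
  let σ : {x : M // Relation.ReflTransGen (Hy L A) l x} → {x : M // Relation.ReflTransGen (Hy L A) l x} :=
    fun x => ⟨x.1 + m, G.translate_all hl hm hlm x.2⟩
  have hσ : Function.Involutive σ := by
    intro x
    apply Subtype.ext
    change x.1 + m + m = x.1
    rw [add_assoc, G.two, add_zero]
  have hσf : ∀ x, σ x ≠ x := by
    intro x hx
    have : x.1 + m = x.1 := congrArg Subtype.val hx
    exact hne (by simpa using this)
  by_contra hodd
  obtain ⟨x, hx⟩ := (Function.Involutive.toPerm σ hσ).exists_fixed_point_of_prime (p := 2) (n := 1)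
    (by rwa [← Nat.card_eq_fintype_card, Nat.card_eq_fintype_card]) (by
      ext x
      change (σ (σ x)).1 = x.1
      rw [hσ])
  exact hσf x hx

/-- **(3.4)**: all pairs of the component are hyperbolic -/
theorem hy_of_chain [Finite H] {l t : M} (hl : l ∈ L) (h : Relation.ReflTransGen (Hy L A) l t) (hne : t ≠ l) :
    Hy L A l t := by
  rcases G.dich hl h with h1 | h1
  · exfalso
    have h2 : l + t = 0 := G.eq_zero hl h1 (by rwa [G.two_left])
    exact hne (by rw [← G.two_left l t, h2, add_zero])
  · exact h1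

theorem hy_of_chain₂ [Finite H] {l s t : M} (hl : l ∈ L) (hs : Relation.ReflTransGen (Hy L A) l s)
    (ht : Relation.ReflTransGen (Hy L A) l t) (hne : t ≠ s) : Hy L A s t :=
  G.hy_of_chain (chain_mem hl hs) ((G.chain_symm hs).trans ht) hne

end

/-- the additive subgroup `{0} ∪ component of l` -/
def sub [Finite H] (G : Hyp L A) {l : M} (hl : l ∈ L) : AddSubgroup M where
  carrier := {x | x = 0 ∨ Relation.ReflTransGen (Hy L A) l x}
  zero_mem' := Or.inl rfl
  add_mem' := by
    rintro x y (rfl | hx) (rfl | hy)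
    · left; rw [add_zero]
    · right; rwa [zero_add]
    · right; rwa [add_zero]
    · by_cases hxy : y = x
      · left; rw [hxy, G.two]
      · right
        exact hy.tail (G.hy_add (G.symm (G.hy_of_chain₂ hl hx hy hxy)))
  neg_mem' := by
    intro x hx
    have e : -x = x := neg_eq_of_add_eq_zero_left (G.two x)
    rwa [e]

theorem mem_sub [Finite H] (G : Hyp L A) {l x : M} (hl : l ∈ L) :
    x ∈ G.sub hl ↔ x = 0 ∨ Relation.ReflTransGen (Hy L A) l x := Iff.rfl

end Hyp

end Cfsg.Agent.Omega.NO3S.TwoOne.PD
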